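import Cfsg.Agent.EqLemmas

/-!
# Averages of character values over Galois orbits (Burnside's zero argument)

* `exists_poly_trace_pow` : if `T ^ N = 1` then `trace (T ^ k) = P(ζ ^ k)` for one `P : ℤ[X]`.
* `CycloValued f` : on every cyclic subgroup `f` is given by such a polynomial;
  `cycloValued_character` says characters are.
* `CycloValued.map_inv` : `f g⁻¹ = conj (f g)`; `CycloValued.isIntegral`.
* `card_le_sum_norm_pow` : if `S` is closed under powers prime to `|G|` and `f ≠ 0` on `S`, then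
  `|S| ≤ ∑_{g ∈ S} ‖f g‖ ^ r`.
-/

namespace Cfsg.Agent.GaloisAvg

open Polynomial Finset
open scoped ComplexConjugate

/-- The standard primitive `N`th root of unity. -/
noncomputable def zeta (N : ℕ) : ℂ := Complex.exp (2 * Real.pi * Complex.I / N)

theorem zeta_isPrimitiveRoot {N : ℕ} (hN : N ≠ 0) : IsPrimitiveRoot (zeta N) N :=
  Complex.isPrimitiveRoot_exp N hN

/-- The trace of a power of an operator of finite order is an integral polynomial in `ζ ^ k`. -/
theorem exists_poly_trace_pow {V : Type*} [AddCommGroup V] [Module ℂ V] [FiniteDimensional ℂ V]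
    (T : Module.End ℂ V) {N : ℕ} (hN : N ≠ 0) (hT : T ^ N = 1) :
    ∃ P : ℤ[X], ∀ k : ℕ, LinearMap.trace ℂ V (T ^ k) = aeval (zeta N ^ k) P := by
  set ζ := zeta N with hζdef
  have hζ : IsPrimitiveRoot ζ N := zeta_isPrimitiveRoot hN
  have hN' : (N : ℂ) ≠ 0 := Nat.cast_ne_zero.mpr hN
  let E : ℕ → Module.End ℂ V := fun e => (N : ℂ)⁻¹ • ∑ j ∈ range N, ((ζ⁻¹) ^ e • T) ^ j
  have hidem : ∀ e, IsIdempotentElem (E e) := by
    intro e
    set S : Module.End ℂ V := (ζ⁻¹) ^ e • T with hS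
    have hS1 : S ^ N = 1 := by
      rw [hS, _root_.smul_pow, hT, ← pow_mul, mul_comm, pow_mul, inv_pow, hζ.pow_eq_one]; simp
    set A := ∑ j ∈ range N, S ^ j with hA
    have hAS : A * S = A := by
      have := geom_sum_mul S N
      rw [hS1, sub_self, mul_sub, mul_one, sub_eq_zero] at this
      exact this
    have hASj : ∀ j : ℕ, A * S ^ j = A := by
      intro j
      induction j with
      | zero => simp
      | succ j ih => rw [pow_succ, ← mul_assoc, ih, hAS]
    have hAA : A * A = (N : ℂ) • A := by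
      calc A * A = A * ∑ j ∈ range N, S ^ j := rfl
        _ = ∑ j ∈ range N, A := by rw [mul_sum]; exact sum_congr rfl fun j _ => hASj j
        _ = (N : ℂ) • A := by rw [sum_const, card_range, Nat.cast_smul_eq_nsmul]
    change ((N : ℂ)⁻¹ • A) * ((N : ℂ)⁻¹ • A) = (N : ℂ)⁻¹ • A
    rw [smul_mul_smul_comm, hAA, smul_smul, mul_assoc, inv_mul_cancel₀ hN', mul_one]
  let d : ℕ → ℕ := fun e => Module.finrank ℂ (LinearMap.range (E e))
  have hd : ∀ e, LinearMap.trace ℂ V (E e) = (d e : ℂ) := fun e =>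
    (LinearMap.IsIdempotentElem.isProj_range _ (hidem e)).trace
  refine ⟨∑ e ∈ range N, C (d e : ℤ) * X ^ e, fun k => ?_⟩
  have hsum : T ^ k = ∑ e ∈ range N, (ζ ^ k) ^ e • E e := by
    have h1 : ∀ j ∈ range N, ∑ e ∈ range N, (ζ ^ k) ^ e * ((N : ℂ)⁻¹ * ((ζ⁻¹) ^ e) ^ j) =
        if k % N = j then 1 else 0 := by
      intro j hj
      rw [mem_range] at hj
      have h2 : ∀ e, (ζ ^ k) ^ e * ((N : ℂ)⁻¹ * ((ζ⁻¹) ^ e) ^ j) =
          (N : ℂ)⁻¹ * (ζ ^ k * (ζ ^ j)⁻¹) ^ e := by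
        intro e
        rw [mul_pow, inv_pow, inv_pow, inv_pow, ← pow_mul ζ e j, ← pow_mul ζ j e, mul_comm e j]
        ring
      simp_rw [h2, ← mul_sum]
      have hω1 : (ζ ^ k * (ζ ^ j)⁻¹) ^ N = 1 := by
        rw [mul_pow, inv_pow, ← pow_mul, ← pow_mul, mul_comm k, mul_comm j, pow_mul, pow_mul,
          hζ.pow_eq_one]
        simp
      have hiff : ζ ^ k * (ζ ^ j)⁻¹ = 1 ↔ k % N = j := by
        rw [mul_inv_eq_one₀ (pow_ne_zero _ (hζ.ne_zero hN)), (hζ.isOfFinOrder hN).pow_eq_pow_iff_modEq,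
          ← hζ.eq_orderOf, Nat.ModEq, Nat.mod_eq_of_lt hj]
      split_ifs with h
      · rw [hiff.mpr h]; simp [inv_mul_cancel₀ hN']
      · have hne : ζ ^ k * (ζ ^ j)⁻¹ - 1 ≠ 0 := sub_ne_zero.mpr fun h' => h (hiff.mp h')
        have := geom_sum_mul (ζ ^ k * (ζ ^ j)⁻¹) N
        rw [hω1, sub_self, mul_eq_zero] at this
        rw [this.resolve_right hne, mul_zero]
    simp_rw [E, smul_smul, smul_sum, _root_.smul_pow, smul_smul]
    rw [sum_comm]
    simp_rw [mul_assoc, ← sum_smul]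
    rw [sum_congr rfl fun j hj => by rw [h1 j hj], sum_congr rfl fun j _ => ite_smul _ _ _ _]
    simp only [one_smul, zero_smul, sum_ite_eq, mem_range, Nat.mod_lt _ (Nat.pos_of_ne_zero hN),
      if_true]
    conv_lhs => rw [← Nat.mod_add_div k N, pow_add, pow_mul, hT, one_pow, mul_one]
  rw [hsum, map_sum (aeval _)]
  refine (map_sum _ _ _).trans (sum_congr rfl fun e _ => ?_)
  simp [hd, mul_comm]

/-- Product over all primitive roots: a nonzero rational integer. -/
theorem one_le_norm_prod {N : ℕ} [NeZero N] (P : ℤ[X])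
    (h : ∀ z ∈ primitiveRoots N ℂ, aeval z P ≠ 0) :
    (1 : ℝ) ≤ ∏ z ∈ primitiveRoots N ℂ, ‖aeval z P‖ := by
  have : NeZero (N : ℚ) := NeZero.charZero
  have : IsCyclotomicExtension {N} ℚ (CyclotomicField N ℚ) :=
    CyclotomicField.isCyclotomicExtension N ℚ
  have hK : IsPrimitiveRoot (IsCyclotomicExtension.zeta N ℚ (CyclotomicField N ℚ)) N :=
    IsCyclotomicExtension.zeta_spec N ℚ (CyclotomicField N ℚ)
  set z0 := IsCyclotomicExtension.zeta N ℚ (CyclotomicField N ℚ) with hz0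
  have hirr : Irreducible (cyclotomic N ℚ) := cyclotomic.irreducible_rat (NeZero.pos N)
  let e := hK.embeddingsEquivPrimitiveRoots ℂ hirr
  haveI : FiniteDimensional ℚ (CyclotomicField N ℚ) := IsCyclotomicExtension.finiteDimensional {N} ℚ (CyclotomicField N ℚ)
  have h1 : algebraMap ℚ ℂ (Algebra.norm ℚ (aeval z0 P)) =
      ∏ σ : (CyclotomicField N ℚ) →ₐ[ℚ] ℂ, σ (aeval z0 P) := Algebra.norm_eq_prod_embeddings ℚ ℂ _
  have h2 : ∏ σ : (CyclotomicField N ℚ) →ₐ[ℚ] ℂ, σ (aeval z0 P) = ∏ z ∈ primitiveRoots N ℂ, aeval z P := by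
    rw [← prod_coe_sort (primitiveRoots N ℂ) fun z => aeval z P]
    refine Fintype.prod_equiv e _ _ fun σ => ?_
    have : ((e σ : primitiveRoots N ℂ) : ℂ) = σ z0 := rfl
    rw [this]
    exact (aeval_algHom_apply (σ.restrictScalars ℤ) z0 P).symm
  have h3 : IsIntegral ℤ (Algebra.norm ℚ (aeval z0 P)) :=
    Algebra.isIntegral_norm ℚ (IsIntegral.map_of_comp_eq (RingHom.id ℤ) (RingHom.id (CyclotomicField N ℚ)) rfl
      ((adjoin_le_integralClosure (hK.isIntegral (NeZero.pos N)))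
        (aeval_mem_adjoin_singleton ℤ z0)))
  obtain ⟨n, hn⟩ := IsIntegrallyClosed.isIntegral_iff.mp h3
  have h4 : ∏ z ∈ primitiveRoots N ℂ, aeval z P = (n : ℂ) := by
    rw [← h2, ← h1, ← hn]; simp
  rw [← norm_prod, h4, Complex.norm_intCast]
  have hn0 : n ≠ 0 := by
    rintro rfl
    exact (prod_ne_zero_iff.mpr h) (by simpa using h4)
  exact_mod_cast Int.one_le_abs hn0

theorem card_le_sum_norm_pow_roots {N : ℕ} [NeZero N] (P : ℤ[X])
    (h : ∀ z ∈ primitiveRoots N ℂ, aeval z P ≠ 0) (r : ℕ) :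
    ((primitiveRoots N ℂ).card : ℝ) ≤ ∑ z ∈ primitiveRoots N ℂ, ‖aeval z P‖ ^ r := by
  have hpos : ∀ z ∈ primitiveRoots N ℂ, 0 < ‖aeval z P‖ ^ r :=
    fun z hz => pow_pos (norm_pos_iff.mpr (h z hz)) _
  have h1 : 0 ≤ ∑ z ∈ primitiveRoots N ℂ, Real.log (‖aeval z P‖ ^ r) := by
    rw [← Real.log_prod (fun z hz => (hpos z hz).ne'), prod_pow]
    exact Real.log_nonneg (one_le_pow₀ (one_le_norm_prod P h))
  have h2 := h1.trans (sum_le_sum fun z hz => Real.log_le_sub_one_of_pos (hpos z hz))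
  rw [sum_sub_distrib, sum_const, nsmul_one] at h2
  linarith

variable {G : Type*} [Group G]

/-- On every cyclic subgroup the function is an integral polynomial in roots of unity. -/
def CycloValued (f : G → ℂ) : Prop :=
  ∀ g : G, ∃ P : ℤ[X], ∀ k : ℕ, f (g ^ k) = aeval (zeta (Nat.card G) ^ k) P

theorem cycloValued_trace [Finite G] {V : Type*} [AddCommGroup V] [Module ℂ V]
    [FiniteDimensional ℂ V] (ρ : Representation ℂ G V) :
    CycloValued fun g => LinearMap.trace ℂ V (ρ g) := by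
  intro g
  obtain ⟨P, hP⟩ := exists_poly_trace_pow (ρ g) Nat.card_pos.ne'
    (by rw [← map_pow, pow_card_eq_one', map_one])
  exact ⟨P, fun k => by simp only [map_pow]; exact hP k⟩

theorem cycloValued_character [Finite G] {χ : G → ℂ} (h : Cfsg.IsCharacter G χ) :
    CycloValued χ := by
  obtain ⟨n, ρ, rfl⟩ := h
  exact cycloValued_trace ρ

theorem cycloValued_irr [Finite G] (χ : Cfsg.IrrCharacter G) : CycloValued (χ : G → ℂ) := by
  obtain ⟨n, ρ, -, h⟩ := χ.2
  exact cycloValued_character ⟨n, ρ, h⟩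

theorem CycloValued.isIntegral [Finite G] {f : G → ℂ} (hf : CycloValued f) (g : G) :
    IsIntegral ℤ (f g) := by
  obtain ⟨P, hP⟩ := hf g
  have := hP 1
  rw [pow_one, pow_one] at this
  rw [this]
  exact adjoin_le_integralClosure ((zeta_isPrimitiveRoot Nat.card_pos.ne').isIntegral Nat.card_pos)
    (aeval_mem_adjoin_singleton ℤ _)

theorem CycloValued.map_inv [Finite G] {f : G → ℂ} (hf : CycloValued f) (g : G) :
    f g⁻¹ = conj (f g) := by
  obtain ⟨P, hP⟩ := hf g
  set N := Nat.card G with hN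
  have hN0 : N ≠ 0 := Nat.card_pos.ne'
  have hz := zeta_isPrimitiveRoot hN0
  have e1 : g⁻¹ = g ^ (N - 1) := by
    refine inv_eq_of_mul_eq_one_right ?_
    rw [← pow_succ', Nat.sub_add_cancel (Nat.one_le_iff_ne_zero.mpr hN0), hN, pow_card_eq_one']
  have e2 : zeta N ^ (N - 1) = conj (zeta N) := by
    rw [← Complex.inv_eq_conj (hz.norm'_eq_one hN0)]
    refine eq_inv_of_mul_eq_one_left ?_
    rw [← pow_succ, Nat.sub_add_cancel (Nat.one_le_iff_ne_zero.mpr hN0), hz.pow_eq_one]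
  have h1 := hP 1
  rw [pow_one, pow_one] at h1
  rw [e1, hP, e2, h1]
  exact aeval_algHom_apply (Complex.conjAe.toAlgHom.restrictScalars ℤ) _ P

/-- Values at powers prime to the group order vanish together. -/
theorem CycloValued.eq_zero_of_pow_eq_zero [Finite G] {f : G → ℂ} (hf : CycloValued f) {g : G}
    {k : ℕ} (hk : k.Coprime (Nat.card G)) (h : f (g ^ k) = 0) : f g = 0 := by
  obtain ⟨P, hP⟩ := hf g
  have hz := zeta_isPrimitiveRoot (N := Nat.card G) Nat.card_pos.ne'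
  have h1 := hP 1
  rw [pow_one, pow_one] at h1
  rw [hP] at h
  rw [h1]
  have hzk := hz.pow_of_coprime k hk
  have hdvd := minpoly.isIntegrallyClosed_dvd (hzk.isIntegral Nat.card_pos) h
  rw [← cyclotomic_eq_minpoly hzk Nat.card_pos, cyclotomic_eq_minpoly hz Nat.card_pos] at hdvd
  exact aeval_eq_zero_of_dvd_aeval_eq_zero hdvd (minpoly.aeval ℤ _)

/-- Burnside's averaging argument: on a set closed under powers prime to `|G|` the mean of
`‖f‖ ^ r` is at least one, when `f` vanishes nowhere on it. -/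
theorem card_le_sum_norm_pow [Finite G] {f : G → ℂ} (hf : CycloValued f) (S : Finset G)
    (hS : ∀ g ∈ S, ∀ k : ℕ, k.Coprime (Nat.card G) → g ^ k ∈ S) (h0 : ∀ g ∈ S, f g ≠ 0) (r : ℕ) :
    (S.card : ℝ) ≤ ∑ g ∈ S, ‖f g‖ ^ r := by
  classical
  set N := Nat.card G with hN
  have : NeZero N := ⟨Nat.card_pos.ne'⟩
  have hz := zeta_isPrimitiveRoot (NeZero.ne N)
  set R := primitiveRoots N ℂ with hR
  let e : ℂ → ℕ := fun z => if h : ∃ k, k.Coprime N ∧ zeta N ^ k = z then h.choose else 0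
  have he : ∀ z ∈ R, (e z).Coprime N ∧ zeta N ^ e z = z := by
    intro z hzR
    obtain ⟨i, -, hi, hiz⟩ := (hz.isPrimitiveRoot_iff).mp
      ((mem_primitiveRoots (NeZero.pos N)).mp hzR)
    have h : ∃ k, k.Coprime N ∧ zeta N ^ k = z := ⟨i, hi, hiz⟩
    simp only [e, dif_pos h]
    exact h.choose_spec
  have hperm : ∀ z ∈ R, ∑ g ∈ S, ‖f (g ^ e z)‖ ^ r = ∑ g ∈ S, ‖f g‖ ^ r := by
    intro z hzR
    have hinj : Function.Injective fun g : G => g ^ e z :=
      (powCoprime ((he z hzR).1.symm)).injective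
    have himg : S.image (fun g => g ^ e z) = S :=
      eq_of_subset_of_card_le (image_subset_iff.mpr fun g hg => hS g hg _ (he z hzR).1)
        (by rw [card_image_of_injective _ hinj])
    conv_rhs => rw [← himg, sum_image fun a _ b _ hab => hinj hab]
  have hkey : ∀ g ∈ S, (R.card : ℝ) ≤ ∑ z ∈ R, ‖f (g ^ e z)‖ ^ r := by
    intro g hg
    obtain ⟨P, hP⟩ := hf g
    have hfz : ∀ z ∈ R, f (g ^ e z) = aeval z P := fun z hzR => by rw [hP, (he z hzR).2]
    rw [sum_congr rfl fun z hzR => by rw [hfz z hzR]]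
    exact card_le_sum_norm_pow_roots P
      (fun z hzR => by rw [← hfz z hzR]; exact h0 _ (hS g hg _ (he z hzR).1)) r
  have h := sum_le_sum hkey
  rw [sum_comm, sum_congr rfl hperm, sum_const, sum_const, nsmul_eq_mul, nsmul_eq_mul] at h
  have hR0 : (0 : ℝ) < R.card := by
    exact_mod_cast card_pos.mpr ⟨zeta N, (mem_primitiveRoots (NeZero.pos N)).mpr hz⟩
  exact le_of_mul_le_mul_left (by rwa [mul_comm (S.card : ℝ)] at h) hR0

end Cfsg.Agent.GaloisAvg
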