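import Cfsg.Agent.Lib.GaloisAvg.Basic
import Cfsg.Agent.Lib.Char.Integral

/-!
* `dvd_degree_of_apply_eq_zero` : a character vanishing at a p-element has degree divisible by p.
-/

namespace Cfsg.Agent.GaloisAvg

open Finset

theorem dvd_finrank_of_character_eq_zero {G : Type*} [Group G] [Finite G] {V : Type*}
    [AddCommGroup V] [Module ℂ V] [FiniteDimensional ℂ V] (ρ : Representation ℂ G V)
    {p : ℕ} [hp : Fact p.Prime] {g : G} {k : ℕ} (hg : g ^ p ^ k = 1) (h0 : ρ.character g = 0) :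
    p ∣ Module.finrank ℂ V := by
  obtain ⟨b, μ, hμ, hroot⟩ := Cfsg.Agent.Char.exists_eigenbasis ρ g
  have hsum := Cfsg.Agent.Char.character_eq_sum_eigenvalues ρ g b μ hμ
  rw [h0] at hsum
  let R := integralClosure ℤ ℂ
  have hμk : ∀ i, μ i ^ p ^ k = 1 := fun i => by
    obtain ⟨c, hc⟩ := orderOf_dvd_of_pow_eq_one hg
    rw [hc, pow_mul, hroot i, one_pow]
  have hint : ∀ i, μ i ∈ R := fun i =>
    IsIntegral.of_pow (pow_pos hp.out.pos k) (by rw [hμk i]; exact isIntegral_one)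
  let m : Fin (Module.finrank ℂ V) → R := fun i => ⟨μ i, hint i⟩
  have hnu : (p : R) ∈ nonunits R := by
    rintro ⟨u, hu⟩
    have h1 : IsIntegral ℤ ((p : ℂ)⁻¹) := by
      have h2 : ((u⁻¹ : Rˣ) : ℂ) = (p : ℂ)⁻¹ := by
        refine eq_inv_of_mul_eq_one_left ?_
        have h3 : ((u⁻¹ : Rˣ) : R) * (p : R) = 1 := by rw [← hu, Units.inv_mul]
        simpa using congrArg (fun x : R => (x : ℂ)) h3
      exact h2 ▸ (u⁻¹ : Rˣ).val.2
    have h4 := Cfsg.Agent.Char.nat_dvd_of_isIntegral_div (m := 1) hp.out.ne_zero (by simpa using h1)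
    exact hp.out.not_dvd_one h4
  haveI := CharP.quotient R p hnu
  haveI : ExpChar (R ⧸ Ideal.span ({(p : R)} : Set R)) p := ExpChar.prime hp.out
  let q := Ideal.Quotient.mk (Ideal.span ({(p : R)} : Set R))
  have h1 : ∑ i, q (m i) = 0 := by
    rw [← map_sum]
    have : ∑ i, m i = 0 := Subtype.ext (by push_cast; exact hsum.symm)
    rw [this, map_zero]
  have h2 : (∑ i, q (m i)) ^ p ^ k = ∑ i, q (m i) ^ p ^ k := sum_pow_char_pow _ _ _ _
  rw [h1, zero_pow (pow_pos hp.out.pos k).ne'] at h2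
  have h3 : ∀ i, q (m i) ^ p ^ k = 1 := fun i => by
    rw [← map_pow, show m i ^ p ^ k = 1 from Subtype.ext (hμk i), map_one]
  rw [sum_congr rfl fun i _ => h3 i, sum_const, card_univ, Fintype.card_fin, nsmul_one] at h2
  exact (CharP.cast_eq_zero_iff _ p _).1 h2.symm

theorem dvd_degree_of_apply_eq_zero {G : Type*} [Group G] [Finite G] {χ : G → ℂ}
    (hχ : Cfsg.IsCharacter G χ) {p : ℕ} [Fact p.Prime] {g : G} {k n : ℕ} (hg : g ^ p ^ k = 1)
    (hn : χ 1 = n) (h0 : χ g = 0) : p ∣ n := by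
  obtain ⟨d, ρ, rfl⟩ := hχ
  rw [Representation.char_one, Nat.cast_inj] at hn
  exact hn ▸ dvd_finrank_of_character_eq_zero ρ hg h0

end Cfsg.Agent.GaloisAvg
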